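import Cfsg.Agent.Lib.CosetEnum.SuzG24.DefsPart0
import Cfsg.Agent.Lib.CosetEnum.SuzG24.DefsPart1
import Cfsg.Agent.Lib.CosetEnum.SuzG24.StepsPart0
import Cfsg.Agent.Lib.CosetEnum.SuzG24.StepsPart1
import Cfsg.Agent.Lib.CosetEnum.SuzG24.StepsPart2
import Cfsg.Agent.Lib.CosetEnum.SuzG24.StepsPart3
import Cfsg.Agent.Lib.CosetEnum.SuzG24.StepsPart4
import Cfsg.Agent.Lib.CosetEnum.SuzG24.StepsPart5
import Cfsg.Agent.Lib.CosetEnum.SuzG24.StepsPart6
import Cfsg.Agent.Lib.CosetEnum.SuzG24.StepsPart7
import Cfsg.Agent.Lib.CosetEnum.SuzG24.StepsPart8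
import Cfsg.Agent.Lib.CosetEnum.SuzG24.ClosedPart0
import Cfsg.Agent.Lib.CosetEnum.SuzG24.PermPart0

/-! Generated certificate. -/

set_option autoImplicit false
set_option maxRecDepth 20000

namespace Cfsg.Lib.CosetEnum.SuzG24

theorem cert_valid : cert.Valid where
  valid :=
    { pos := by decide +kernel
      shifts := by decide +kernel
      defs := (defsOK_append (a := 12000) (b := 8927) (defsOK_append (a := 4000) (b := 8000) defs_0 (defsOK_append (a := 4000) (b := 4000) defs_1 defs_2)) (defsOK_append (a := 4000) (b := 4927) defs_3 (defsOK_append (a := 4000) (b := 927) defs_4 defs_5)))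
      steps := (stepsOK_append (m := 12000) (n := 12173) (stepsOK_append (m := 6000) (n := 6000) (stepsOK_append (m := 3000) (n := 3000) (stepsOK_append (m := 1500) (n := 1500) steps_0 steps_1) (stepsOK_append (m := 1500) (n := 1500) steps_2 steps_3)) (stepsOK_append (m := 3000) (n := 3000) (stepsOK_append (m := 1500) (n := 1500) steps_4 steps_5) (stepsOK_append (m := 1500) (n := 1500) steps_6 steps_7))) (stepsOK_append (m := 6000) (n := 6173) (stepsOK_append (m := 3000) (n := 3000) (stepsOK_append (m := 1500) (n := 1500) steps_8 steps_9) (stepsOK_append (m := 1500) (n := 1500) steps_10 steps_11)) (stepsOK_append (m := 3000) (n := 3173) (stepsOK_append (m := 1500) (n := 1500) steps_12 steps_13) (stepsOK_append (m := 1500) (n := 1673) steps_14 (stepsOK_append (m := 1500) (n := 173) steps_15 steps_16)))))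
      closed := closed_0 }
  pos := by decide +kernel
  halves := by decide +kernel
  perm := (permOK_append (a := 900) (b := 882) perm_0 perm_1)
  tree := by decide +kernel
  fix := by decide +kernel

theorem orb0_ok : orbitOK tabP orb0 pos0 7 1782 416 subWords 416 0 = true := by
  decide +kernel

theorem orb1_ok : orbitOK tabP orb1 pos1 7 1782 1365 subWords 1365 0 = true := by
  decide +kernel

end Cfsg.Lib.CosetEnum.SuzG24
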